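import Groth.Agent.DerAdj.Basic

/-!
Way-out functors.
-/

universe w w' v v' u u'

open CategoryTheory Limits Pretriangulated DerivedCategory

namespace Groth.Agent.WayOut

section diagram

variable {C : Type u} [Category.{v} C] [Abelian C]

theorem four_mono {A₁ A₂ A₃ A₄ B₁ B₂ B₃ B₄ : C} {f₁ : A₁ ⟶ A₂} {f₂ : A₂ ⟶ A₃} {f₃ : A₃ ⟶ A₄}
    {g₁ : B₁ ⟶ B₂} {g₂ : B₂ ⟶ B₃} {g₃ : B₃ ⟶ B₄} {α : A₁ ⟶ B₁} {β : A₂ ⟶ B₂} {γ : A₃ ⟶ B₃} {δ : A₄ ⟶ B₄}
    (z₁ : f₁ ≫ f₂ = 0) (z₂ : f₂ ≫ f₃ = 0) (hf : (ShortComplex.mk f₂ f₃ z₂).Exact) (w : g₁ ≫ g₂ = 0)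
    (hg : (ShortComplex.mk g₁ g₂ w).Exact) (c₁ : f₁ ≫ β = α ≫ g₁) (c₂ : f₂ ≫ γ = β ≫ g₂) (c₃ : f₃ ≫ δ = γ ≫ g₃)
    [Epi α] [Mono β] [Mono δ] : Mono γ := by
  refine Preadditive.mono_of_cancel_zero γ fun {W} x hx => ?_
  obtain ⟨W₁, p₁, _, y, hy⟩ := hf.exact_up_to_refinements x (by
    show x ≫ f₃ = 0
    rw [← cancel_mono δ, Category.assoc, c₃, reassoc_of% hx, zero_comp, zero_comp])
  dsimp at y hy
  obtain ⟨W₂, p₂, _, z, hz⟩ := hg.exact_up_to_refinements (y ≫ β) (by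
    show (y ≫ β) ≫ g₂ = 0
    rw [Category.assoc, ← c₂, ← reassoc_of% hy, hx, comp_zero])
  dsimp at z hz
  obtain ⟨W₃, p₃, _, v, hv⟩ := surjective_up_to_refinements_of_epi α z
  have h : p₃ ≫ p₂ ≫ y = v ≫ f₁ := by
    rw [← cancel_mono β, Category.assoc, Category.assoc, Category.assoc, hz, c₁, reassoc_of% hv]
  rw [← cancel_epi p₁, ← cancel_epi p₂, ← cancel_epi p₃, comp_zero, comp_zero, comp_zero, hy, reassoc_of% h, z₁,
    comp_zero]

theorem four_epi {A₂ A₃ A₄ A₅ B₂ B₃ B₄ B₅ : C} {f₂ : A₂ ⟶ A₃} {f₃ : A₃ ⟶ A₄} {f₄ : A₄ ⟶ A₅}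
    {g₂ : B₂ ⟶ B₃} {g₃ : B₃ ⟶ B₄} {g₄ : B₄ ⟶ B₅} {β : A₂ ⟶ B₂} {γ : A₃ ⟶ B₃} {δ : A₄ ⟶ B₄} {ε : A₅ ⟶ B₅}
    (z₃ : f₃ ≫ f₄ = 0) (hf : (ShortComplex.mk f₃ f₄ z₃).Exact) (w₂ : g₂ ≫ g₃ = 0)
    (hg : (ShortComplex.mk g₂ g₃ w₂).Exact) (w₃ : g₃ ≫ g₄ = 0)
    (c₂ : f₂ ≫ γ = β ≫ g₂) (c₃ : f₃ ≫ δ = γ ≫ g₃) (c₄ : f₄ ≫ ε = δ ≫ g₄)
    [Epi β] [Epi δ] [Mono ε] : Epi γ := by
  rw [epi_iff_surjective_up_to_refinements]
  intro W y
  obtain ⟨W₁, p₁, _, x, hx⟩ := surjective_up_to_refinements_of_epi δ (y ≫ g₃)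
  obtain ⟨W₂, p₂, _, x', hx'⟩ := hf.exact_up_to_refinements x (by
    show x ≫ f₄ = 0
    rw [← cancel_mono ε, Category.assoc, c₄, ← reassoc_of% hx, w₃, comp_zero, comp_zero, zero_comp])
  dsimp at x' hx'
  obtain ⟨W₃, p₃, _, z, hz⟩ := hg.exact_up_to_refinements (p₂ ≫ p₁ ≫ y - x' ≫ γ) (by
    show (p₂ ≫ p₁ ≫ y - x' ≫ γ) ≫ g₃ = 0
    rw [Preadditive.sub_comp, Category.assoc, Category.assoc, Category.assoc, hx, ← c₃, ← reassoc_of% hx', sub_self])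
  dsimp at z hz
  obtain ⟨W₄, p₄, _, z', hz'⟩ := surjective_up_to_refinements_of_epi β z
  refine ⟨W₄, p₄ ≫ p₃ ≫ p₂ ≫ p₁, inferInstance, z' ≫ f₂ + p₄ ≫ p₃ ≫ x', ?_⟩
  rw [Preadditive.add_comp, Category.assoc z', c₂, ← reassoc_of% hz', ← hz]
  simp [Preadditive.comp_sub]

end diagram

variable {A : Type u} [Category.{v} A] [Abelian A] [HasDerivedCategory.{w} A] {B : Type u'} [Category.{v'} B] [Abelian B]
  [HasDerivedCategory.{w'} B] {F G : DerivedCategory A ⥤ DerivedCategory B} [F.CommShift ℤ] [G.CommShift ℤ]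
  [F.IsTriangulated] [G.IsTriangulated] (η : F ⟶ G) [NatTrans.CommShift η ℤ]

/-- a natural transformation gives a map of triangles -/
noncomputable def triMap (T : Triangle (DerivedCategory A)) : F.mapTriangle.obj T ⟶ G.mapTriangle.obj T :=
  Triangle.homMk _ _ (η.app _) (η.app _) (η.app _) (η.naturality _) (η.naturality _) (by
    show (F.map T.mor₃ ≫ (F.commShiftIso (1 : ℤ)).hom.app T.obj₁) ≫ (η.app T.obj₁)⟦(1 : ℤ)⟧' =
      η.app T.obj₃ ≫ G.map T.mor₃ ≫ (G.commShiftIso (1 : ℤ)).hom.app T.obj₁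
    rw [Category.assoc, NatTrans.shift_app_comm η (1 : ℤ) T.obj₁, ← Category.assoc, η.naturality, Category.assoc])

theorem ext₂ (T : Triangle (DerivedCategory A)) (hT : T ∈ distTriang _) (h₁ : IsIso (η.app T.obj₁))
    (h₃ : IsIso (η.app T.obj₃)) : IsIso (η.app T.obj₂) :=
  isIso₂_of_isIso₁₃ (triMap η T) (F.map_distinguished T hT) (G.map_distinguished T hT) h₁ h₃

theorem isIso_shift (X : DerivedCategory A) (n : ℤ) (h : IsIso (η.app X)) : IsIso (η.app (X⟦n⟧)) := by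
  have h3 : η.app (X⟦n⟧) = (F.commShiftIso n).hom.app X ≫ (η.app X)⟦n⟧' ≫ (G.commShiftIso n).inv.app X := by
    rw [← Category.assoc, NatTrans.shift_app_comm η n X, Category.assoc, Iso.hom_inv_id_app]
    exact (Category.comp_id _).symm
  rw [h3]
  infer_instance

variable (P : ObjectProperty A) [P.IsClosedUnderIsomorphisms]
  (hη : ∀ X : A, P X → IsIso (η.app ((DerivedCategory.singleFunctor A 0).obj X)))

include hη in
theorem isIso_bounded (X : DerivedCategory A) (a c : ℤ) (ha : X.IsGE a) (hc : X.IsLE c)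
    (hX : ∀ i, a ≤ i → i ≤ c → P ((homologyFunctor A i).obj X)) : IsIso (η.app X) := by
  obtain ⟨k, hk⟩ : ∃ k : ℕ, c < a + k := ⟨(c - a + 1).toNat, by omega⟩
  induction k generalizing X c with
  | zero =>
    have hz : IsZero X := (IsZero.iff_id_eq_zero X).2
      (TStructure.t.zero_of_isLE_of_isGE _ c a (by simpa using hk) hc ha)
    exact isIso_of_source_target_iso_zero _ (F.map_isZero hz).isoZero (G.map_isZero hz).isoZero
  | succ k ih =>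
    by_cases hlt : c < a + k
    · exact ih X c ha hc hX hlt
    have hce : c = a + k := by omega
    subst hce
    obtain ⟨T, hT, rfl, h₁, h₃⟩ := DerAdj.exists_truncTriangle X (a + k)
    refine ext₂ η T hT (ih T.obj₁ _ (DerAdj.isGE_obj₁ hT a _ h₁ h₃ ha) h₁ (fun i hi hi' => ?_) (by omega)) ?_
    · haveI := DerAdj.isIso_mor₁ hT i (isZero_of_isGE T.obj₃ (a + k) (i - 1) (by omega))
        (isZero_of_isGE T.obj₃ (a + k) i (by omega))
      exact P.prop_of_iso (asIso ((homologyFunctor A i).map T.mor₁)).symm (hX i hi (by omega))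
    · haveI := DerAdj.isLE_obj₃ hT (a + k) _ h₁ h₃ hc
      obtain ⟨M, ⟨e⟩⟩ := exists_iso_singleFunctor_obj_of_isGE_of_isLE T.obj₃ (a + k)
      haveI := DerAdj.isIso_mor₂ hT (a + k) (isZero_of_isLE T.obj₁ (a + k - 1) (a + k) (by omega))
        (isZero_of_isLE T.obj₁ (a + k - 1) (a + k + 1) (by omega))
      have hM : P M := P.prop_of_iso
        (asIso ((homologyFunctor A (a + k)).map T.mor₂) ≪≫ (homologyFunctor A (a + k)).mapIso e ≪≫
          (singleFunctorCompHomologyFunctorIso A (a + k)).app M) (hX (a + k) (by omega) le_rfl)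
      exact (NatTrans.isIso_app_iff_of_iso η (e ≪≫
        ((((singleFunctors A).shiftIso (-(a + k)) (a + k) 0 (by omega)).app M)).symm)).2 (isIso_shift η _ _ (hη M hM))

theorem isIso_homology_mor₁ (T : Triangle (DerivedCategory A)) (hT : T ∈ distTriang _) (i : ℤ)
    (hF : IsZero ((homologyFunctor B (i - 1)).obj (F.obj T.obj₃)) ∧ IsZero ((homologyFunctor B i).obj (F.obj T.obj₃)))
    (hG : IsZero ((homologyFunctor B (i - 1)).obj (G.obj T.obj₃)) ∧ IsZero ((homologyFunctor B i).obj (G.obj T.obj₃)))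
    (h : IsIso ((homologyFunctor B i).map (η.app T.obj₁))) : IsIso ((homologyFunctor B i).map (η.app T.obj₂)) := by
  haveI : IsIso ((homologyFunctor B i).map (F.map T.mor₁)) :=
    DerAdj.isIso_mor₁ (F.map_distinguished T hT) i hF.1 hF.2
  haveI : IsIso ((homologyFunctor B i).map (G.map T.mor₁)) :=
    DerAdj.isIso_mor₁ (G.map_distinguished T hT) i hG.1 hG.2
  have hn := congrArg (homologyFunctor B i).map (η.naturality T.mor₁)
  rw [Functor.map_comp, Functor.map_comp] at hn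
  haveI : IsIso ((homologyFunctor B i).map (F.map T.mor₁) ≫ (homologyFunctor B i).map (η.app T.obj₂)) := by
    rw [hn]; infer_instance
  exact IsIso.of_isIso_comp_left ((homologyFunctor B i).map (F.map T.mor₁)) _

theorem isIso_homology_mor₂ (T : Triangle (DerivedCategory A)) (hT : T ∈ distTriang _) (i : ℤ)
    (hF : IsZero ((homologyFunctor B i).obj (F.obj T.obj₁)) ∧ IsZero ((homologyFunctor B (i + 1)).obj (F.obj T.obj₁)))
    (hG : IsZero ((homologyFunctor B i).obj (G.obj T.obj₁)) ∧ IsZero ((homologyFunctor B (i + 1)).obj (G.obj T.obj₁)))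
    (h : IsIso ((homologyFunctor B i).map (η.app T.obj₃))) : IsIso ((homologyFunctor B i).map (η.app T.obj₂)) := by
  haveI : IsIso ((homologyFunctor B i).map (F.map T.mor₂)) :=
    DerAdj.isIso_mor₂ (F.map_distinguished T hT) i hF.1 hF.2
  haveI : IsIso ((homologyFunctor B i).map (G.map T.mor₂)) :=
    DerAdj.isIso_mor₂ (G.map_distinguished T hT) i hG.1 hG.2
  have hn := congrArg (homologyFunctor B i).map (η.naturality T.mor₂)
  rw [Functor.map_comp, Functor.map_comp] at hn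
  haveI : IsIso ((homologyFunctor B i).map (η.app T.obj₂) ≫ (homologyFunctor B i).map (G.map T.mor₂)) := by
    rw [← hn]; infer_instance
  exact IsIso.of_isIso_comp_right _ ((homologyFunctor B i).map (G.map T.mor₂))

include hη in
theorem isIso_plus (hF : ∀ n₁ : ℤ, ∃ n₂ : ℤ, ∀ Y : DerivedCategory A, Y.IsGE n₂ → (F.obj Y).IsGE n₁)
    (hG : ∀ n₁ : ℤ, ∃ n₂ : ℤ, ∀ Y : DerivedCategory A, Y.IsGE n₂ → (G.obj Y).IsGE n₁)
    (X : DerivedCategory A) (a : ℤ) (ha : X.IsGE a) (hX : ∀ i, a ≤ i → P ((homologyFunctor A i).obj X)) :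
    IsIso (η.app X) := by
  rw [DerivedCategory.isIso_iff]
  intro i
  obtain ⟨p, hp⟩ := hF (i + 1)
  obtain ⟨q, hq⟩ := hG (i + 1)
  obtain ⟨T, hT, rfl, h₁, h₃⟩ := DerAdj.exists_truncTriangle X (max p q)
  haveI := h₃
  haveI : (F.obj T.obj₃).IsGE (i + 1) := hp _ (TStructure.t.isGE_of_ge T.obj₃ p (max p q) (le_max_left _ _))
  haveI : (G.obj T.obj₃).IsGE (i + 1) := hq _ (TStructure.t.isGE_of_ge T.obj₃ q (max p q) (le_max_right _ _))
  refine isIso_homology_mor₁ η T hT i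
    ⟨isZero_of_isGE (F.obj T.obj₃) (i + 1) (i - 1) (by omega), isZero_of_isGE (F.obj T.obj₃) (i + 1) i (by omega)⟩
    ⟨isZero_of_isGE (G.obj T.obj₃) (i + 1) (i - 1) (by omega), isZero_of_isGE (G.obj T.obj₃) (i + 1) i (by omega)⟩ ?_
  haveI := isIso_bounded η P hη T.obj₁ a _ (DerAdj.isGE_obj₁ hT a _ h₁ h₃ ha) h₁ fun j hj hj' => by
    haveI := DerAdj.isIso_mor₁ hT j (isZero_of_isGE T.obj₃ (max p q) (j - 1) (by omega))
      (isZero_of_isGE T.obj₃ (max p q) j (by omega))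
    exact P.prop_of_iso (asIso ((homologyFunctor A j).map T.mor₁)).symm (hX j hj)
  infer_instance

include hη in
theorem isIso_both (hF : ∀ n₁ : ℤ, ∃ n₂ : ℤ, ∀ Y : DerivedCategory A, Y.IsGE n₂ → (F.obj Y).IsGE n₁)
    (hF' : ∀ n₁ : ℤ, ∃ n₂ : ℤ, ∀ Y : DerivedCategory A, Y.IsLE n₂ → (F.obj Y).IsLE n₁)
    (hG : ∀ n₁ : ℤ, ∃ n₂ : ℤ, ∀ Y : DerivedCategory A, Y.IsGE n₂ → (G.obj Y).IsGE n₁)
    (hG' : ∀ n₁ : ℤ, ∃ n₂ : ℤ, ∀ Y : DerivedCategory A, Y.IsLE n₂ → (G.obj Y).IsLE n₁)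
    (X : DerivedCategory A) (hX : ∀ i, P ((homologyFunctor A i).obj X)) : IsIso (η.app X) := by
  rw [DerivedCategory.isIso_iff]
  intro i
  obtain ⟨p, hp⟩ := hF' (i - 1)
  obtain ⟨q, hq⟩ := hG' (i - 1)
  obtain ⟨T, hT, rfl, h₁, h₃⟩ := DerAdj.exists_truncTriangle X (min p q + 1)
  haveI := h₁
  haveI : (F.obj T.obj₁).IsLE (i - 1) := hp _ (TStructure.t.isLE_of_le T.obj₁ (min p q + 1 - 1) p (by omega))
  haveI : (G.obj T.obj₁).IsLE (i - 1) := hq _ (TStructure.t.isLE_of_le T.obj₁ (min p q + 1 - 1) q (by omega))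
  refine isIso_homology_mor₂ η T hT i
    ⟨isZero_of_isLE (F.obj T.obj₁) (i - 1) i (by omega), isZero_of_isLE (F.obj T.obj₁) (i - 1) (i + 1) (by omega)⟩
    ⟨isZero_of_isLE (G.obj T.obj₁) (i - 1) i (by omega), isZero_of_isLE (G.obj T.obj₁) (i - 1) (i + 1) (by omega)⟩ ?_
  haveI := isIso_plus η P hη hF hG T.obj₃ _ h₃ fun j hj => by
    haveI := DerAdj.isIso_mor₂ hT j (isZero_of_isLE T.obj₁ (min p q + 1 - 1) j (by omega))
      (isZero_of_isLE T.obj₁ (min p q + 1 - 1) (j + 1) (by omega))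
    exact P.prop_of_iso (asIso ((homologyFunctor A j).map T.mor₂)) (hX j)
  infer_instance

end Groth.Agent.WayOut
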